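import Cfsg.Agent.Lib.J1FromOrder.Insoluble
import Cfsg.Agent.S1644

/-!
# A simple group of the order of `J₁` is `J₁`
-/

set_option autoImplicit false

namespace Cfsg.Agent.EqAbConj

theorem isoJ1_of_isJ1 {G : Type*} [Group G] [Finite G] (h : Cfsg.IsJ1 G) : Cfsg.Spor.IsoJ1 G := by
  haveI := h.1
  obtain ⟨S, t, hS, h8, ht, -, ⟨e⟩⟩ := J1FromOrder.janko_data h.2
  exact S1644.result S hS h8 t ht e

end Cfsg.Agent.EqAbConj
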