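import Cfsg.Agent.GenA.AbelianConj
import Cfsg.Agent.Lib.EqualOrderConj.Basic
import Cfsg.Agent.Lib.GW.ConsBase
import Cfsg.Agent.Lib.GW.ConsQuaternion
import Cfsg.Agent.Lib.Transfer.NormalPComplement
import Cfsg.Agent.S4025
import Cfsg.Agent.S0205

/-!
# A simple normal subgroup of a group whose abelian subgroups of equal order are conjugate

The Sylow `2`-subgroup: elementary abelian, inside the simple subgroup, with all involutions fused.
-/

set_option autoImplicit false
set_option linter.style.haveILetI false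
set_option linter.unusedSectionVars false

namespace Cfsg.Agent.EqAbConj

open Subgroup GenA.AbelianConj

universe u

variable {G : Type u} [Group G] [Finite G]

omit [Finite G] in
theorem orderOf_conj (g x : G) : orderOf (g * x * g⁻¹) = orderOf x :=
  orderOf_injective (MulAut.conj g).toMonoidHom (MulAut.conj g).injective x

theorem isConj_invol (hB : Hyp G) {s t : G} (hs : orderOf s = 2) (ht : orderOf t = 2) :
    IsConj s t := by
  obtain ⟨g, hg⟩ := hB (zpowers s) (zpowers t) inferInstance inferInstance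
    (by rw [Nat.card_zpowers, Nat.card_zpowers, hs, ht])
  have hmem : g * s * g⁻¹ ∈ zpowers t := hg ▸ ⟨s, mem_zpowers s, rfl⟩
  obtain ⟨k, hk⟩ := mem_zpowers_iff.1 hmem
  refine isConj_iff.2 ⟨g, ?_⟩
  have ht2 : t ^ (2 : ℤ) = 1 := by
    rw [show ((2 : ℤ)) = ((2 : ℕ) : ℤ) from rfl, zpow_natCast, ← ht]; exact pow_orderOf_eq_one t
  rcases Int.even_or_odd' k with ⟨j, rfl | rfl⟩
  · rw [zpow_mul, ht2, one_zpow] at hk
    have := conj_eq_one_iff.1 hk.symm
    rw [this, orderOf_one] at hs
    omega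
  · rwa [zpow_add, zpow_mul, ht2, one_zpow, one_mul, zpow_one, eq_comm] at hk

/-- A group of 2-rank one of even order has a central involution. -/
theorem exists_pair_of_simple {K : Type u} [Group K] [Finite K] (hs : IsSimpleGroup K)
    (hna : ¬ IsMulCommutative K) :
    ∃ a b : K, orderOf a = 2 ∧ orderOf b = 2 ∧ Commute a b ∧ a ≠ b := by
  haveI : Fact (Nat.Prime 2) := ⟨Nat.prime_two⟩
  by_contra hcon
  push Not at hcon
  have heven : Even (Nat.card K) := Nat.not_odd_iff_even.1 fun h => hna (by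
    haveI := S0205.result (G := K) h
    exact ⟨⟨IsSimpleGroup.comm_iff_isSolvable.2 inferInstance⟩⟩)
  have hO : Cfsg.oddCore K = ⊥ := by
    refine (IsSimpleGroup.eq_bot_or_eq_top_of_normal _ inferInstance).resolve_right fun e => ?_
    have hodd := Agent.Cores.oddCore_odd (G := K)
    rw [e, Subgroup.card_top] at hodd
    exact Nat.not_even_iff_odd.2 hodd heven
  have h1 : Cfsg.PRankLE 2 1 K := by
    intro A hA hA2
    by_contra hlt
    haveI := Fintype.ofFinite A
    rw [pow_one, not_le, Nat.card_eq_fintype_card] at hlt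
    obtain ⟨x, y, z, hxy, hxz, hyz⟩ := Fintype.two_lt_card_iff.1 hlt
    have key : ∀ x y : A, x ≠ 1 → y ≠ 1 → x ≠ y → False := fun x y hx hy hxy =>
      hxy (Subtype.ext (hcon _ _ (orderOf_eq_prime (hA2 _ x.2) fun e => hx (Subtype.ext e))
        (orderOf_eq_prime (hA2 _ y.2) fun e => hy (Subtype.ext e))
        (mul_comm_of hA x.2 y.2)))
    by_cases hx : x = 1
    · exact key y z (fun e => hxy (hx.trans e.symm)) (fun e => hxz (hx.trans e.symm)) hyz
    by_cases hy : y = 1
    · exact key x z hx (fun e => hyz (hy.trans e.symm)) hxz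
    exact key x y hx hy hxy
  obtain ⟨z, hz, hzc, -⟩ := GW.Cons.exists_center_involution h1 heven hO
  rcases IsSimpleGroup.eq_bot_or_eq_top_of_normal (center K) inferInstance with hb | ht
  · rw [hb, mem_bot] at hzc
    rw [hzc, orderOf_one] at hz
    omega
  · exact hna ⟨⟨fun a b => mem_center_iff.1 (ht ▸ mem_top b) a⟩⟩

/-- What is used of the simple normal subgroup. -/
structure Setting (M : Subgroup G) : Prop where
  hB : Hyp G
  normal : M.Normal
  simple : IsSimpleGroup M
  ncomm : ¬ IsMulCommutative M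

namespace Setting

variable {M : Subgroup G} (hM : Setting M)
include hM

theorem exists_pair : ∃ a b : G, a ∈ M ∧ b ∈ M ∧ orderOf a = 2 ∧ orderOf b = 2 ∧ Commute a b ∧ a ≠ b := by
  obtain ⟨a, b, ha, hb, hab, hne⟩ := exists_pair_of_simple hM.simple hM.ncomm
  exact ⟨a, b, a.2, b.2, by rw [Subgroup.orderOf_coe, ha], by rw [Subgroup.orderOf_coe, hb],
    hab.map M.subtype, fun e => hne (Subtype.ext e)⟩

theorem sq_eq_one {x : G} {k : ℕ} (hx : x ^ 2 ^ k = 1) : x ^ 2 = 1 := by
  haveI : Fact (Nat.Prime 2) := ⟨Nat.prime_two⟩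
  induction k generalizing x with
  | zero =>
    rw [pow_zero, pow_one] at hx
    rw [hx, one_pow]
  | succ k ih =>
    by_contra hne
    have h4 : (x ^ 2) ^ 2 = 1 := ih (by rw [← pow_mul, ← pow_succ']; exact hx)
    rw [← pow_mul] at h4
    have ho : orderOf x = 4 := orderOf_eq_prime_pow (p := 2) (n := 1) (by simpa using hne)
      (by simpa using h4)
    obtain ⟨a, b, -, -, ha, hb, hab, hab'⟩ := hM.exists_pair
    have ha2 : a ^ 2 = 1 := by rw [← ha]; exact pow_orderOf_eq_one a
    have hb2 : b ^ 2 = 1 := by rw [← hb]; exact pow_orderOf_eq_one b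
    have ha1 : a ≠ 1 := fun e => by rw [e, orderOf_one] at ha; omega
    have hb1 : b ≠ 1 := fun e => by rw [e, orderOf_one] at hb; omega
    have hbz : b ∉ zpowers a := by
      intro h
      obtain ⟨i, hi⟩ := mem_zpowers_iff.1 h
      rcases Int.even_or_odd' i with ⟨j, rfl | rfl⟩
      · rw [zpow_mul, zpow_two, ← pow_two, ha2, one_zpow] at hi
        exact hb1 hi.symm
      · rw [zpow_add, zpow_mul, zpow_two, ← pow_two, ha2, one_zpow, one_mul, zpow_one] at hi
        exact hab' hi
    obtain ⟨hcard, hcomm, hexp⟩ := EqualOrderConj.pair_data (p := 2) ha2 ha1 hb2 hbz hab.symm.eq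
    obtain ⟨g, hg⟩ := hM.hB (zpowers a ⊔ zpowers b) (zpowers x) (isMulCommutative_of hcomm) inferInstance
      (by rw [hcard, Nat.card_zpowers, ho]; rfl)
    have hmem : x ∈ (zpowers a ⊔ zpowers b).map (MulAut.conj g).toMonoidHom := hg ▸ mem_zpowers x
    obtain ⟨y, hy, rfl⟩ := hmem
    exact hne (by rw [← map_pow, hexp y hy, map_one])

theorem sylow_sq (S : Sylow 2 G) : ∀ a ∈ (S : Subgroup G), a ^ 2 = 1 := fun a ha => by
  obtain ⟨k, hk⟩ := S.2 ⟨a, ha⟩
  exact hM.sq_eq_one (congrArg Subtype.val hk)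

theorem sylow_comm (S : Sylow 2 G) :
    ∀ a ∈ (S : Subgroup G), ∀ b ∈ (S : Subgroup G), a * b = b * a := fun a ha b hb => by
  have h1 := hM.sylow_sq S _ (mul_mem ha hb)
  have ha2 := hM.sylow_sq S a ha
  have hb2 := hM.sylow_sq S b hb
  calc a * b = a * ((a * b) ^ 2) * b := by rw [h1, mul_one]
    _ = a ^ 2 * (b * a) * b ^ 2 := by rw [pow_two, pow_two, pow_two]; group
    _ = b * a := by rw [ha2, hb2, one_mul, mul_one]

theorem invol_mem {a : G} (ha : orderOf a = 2) : a ∈ M := by
  obtain ⟨b, -, hbM, -, hb, -⟩ := hM.exists_pair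
  obtain ⟨g, hg⟩ := isConj_iff.1 (isConj_invol hM.hB hb ha)
  exact hg ▸ hM.normal.conj_mem b hbM g

theorem sylow_le (S : Sylow 2 G) : (S : Subgroup G) ≤ M := fun a ha => by
  haveI : Fact (Nat.Prime 2) := ⟨Nat.prime_two⟩
  by_cases ha1 : a = 1
  · rw [ha1]; exact one_mem M
  · exact hM.invol_mem (orderOf_eq_prime (hM.sylow_sq S a ha) ha1)

theorem eqConj_two : EqualOrderConj.EqConj 2 G := by
  intro H K hH hK hcard
  have hab : ∀ P : Subgroup G, IsPGroup 2 P → IsMulCommutative P := fun P hP => by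
    obtain ⟨S, hS⟩ := hP.exists_le_sylow
    exact isMulCommutative_of fun x hx y hy => hM.sylow_comm S x (hS hx) y (hS hy)
  exact hM.hB H K (hab H hH) (hab K hK) hcard

end Setting

/-- A group whose Sylow `2`-subgroup is central in its normalizer is solvable. -/
theorem isSolvable_of_centralizing {K : Type u} [Group K] [Finite K] (T : Sylow 2 K)
    (hab : ∀ a ∈ (T : Subgroup K), ∀ b ∈ (T : Subgroup K), a * b = b * a)
    (h : normalizer ((T : Subgroup K) : Set K) ≤ centralizer ((T : Subgroup K) : Set K)) :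
    Group.IsSolvable K := by
  haveI : Fact (Nat.Prime 2) := ⟨Nat.prime_two⟩
  have hc : IsComplement' (MonoidHom.transferSylow T h).ker (T : Subgroup K) :=
    MonoidHom.ker_transferSylow_isComplement' T h
  set N := (MonoidHom.transferSylow T h).ker
  haveI : N.Normal := MonoidHom.normal_ker _
  haveI : Group.IsSolvable N := S0205.result (Nat.odd_iff.2 (Nat.two_dvd_ne_zero.1 (by
    rw [← hc.index_eq_card]
    exact T.not_dvd_index)))
  haveI : IsMulCommutative (T : Subgroup K) := isMulCommutative_of hab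
  haveI : Group.IsSolvable (T : Subgroup K) := Group.isSolvable_of_comm fun a b => Subtype.ext (hab a a.2 b b.2)
  haveI : Group.IsSolvable (K ⧸ N) := Group.isSolvable_of_surjective
    (f := (QuotientGroup.mk' N).comp (T : Subgroup K).subtype) fun x => by
      obtain ⟨k, rfl⟩ := QuotientGroup.mk_surjective x
      obtain ⟨⟨n, t⟩, rfl⟩ := hc.2 k
      refine ⟨t, ?_⟩
      show ((t : K) : K ⧸ N) = ((n : K) * t : K)
      rw [QuotientGroup.mk_mul, (QuotientGroup.eq_one_iff (n : K)).2 n.2, one_mul]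
  exact (Group.isSolvable_iff_subgroup_quotient N).2 ⟨inferInstance, inferInstance⟩

/-- The semilinear bounds on the automizer of the Sylow subgroup. -/
theorem Setting.automizer {M : Subgroup G} (hM : Setting M) (S : Sylow 2 G) {n : ℕ} (hn : 3 ≤ n)
    (hcard : Nat.card (S : Subgroup G) = 2 ^ n) :
    ∃ m, ((n = 3 ∧ m = 3) ∨ (n = 5 ∧ m = 5)) ∧
      (∀ t ∈ (S : Subgroup G), t ≠ 1 → ∀ g ∈ normalizer ((S : Subgroup G) : Set G), Commute g t →
        ∀ a ∈ (S : Subgroup G), Commute (g ^ m) a) ∧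
      (∀ t ∈ (S : Subgroup G), t ≠ 1 → ∃ R : Finset G, R.card ≤ m ∧
        ∀ g ∈ normalizer ((S : Subgroup G) : Set G), Commute g t →
          ∃ r ∈ R, ∀ a ∈ (S : Subgroup G), g * a * g⁻¹ = r * a * r⁻¹) ∧
      ∀ t ∈ (S : Subgroup G), ∀ s ∈ (S : Subgroup G), t ≠ 1 → s ≠ 1 → t ≠ s →
        ∀ g ∈ normalizer ((S : Subgroup G) : Set G), Commute g t → Commute g s →
          ∀ a ∈ (S : Subgroup G), Commute g a := by
  classical
  haveI : Fact (Nat.Prime 2) := ⟨Nat.prime_two⟩
  set P := (S : Subgroup G) with hP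
  haveI hPc : IsMulCommutative P := isMulCommutative_of (hM.sylow_comm S)
  set N := normalizer (P : Set G) with hN
  have hPN : P ≤ N := le_normalizer
  haveI hPn : (P.subgroupOf N).Normal := inferInstanceAs (P.subgroupOf (normalizer (P : Set G))).Normal
  have hidx : ¬ 2 ∣ (P.subgroupOf N).index := (S.subtype hPN).not_dvd_index
  haveI : Group.IsSolvable N := by
    haveI : Group.IsSolvable (P.subgroupOf N) :=
      Group.isSolvable_of_comm fun a b =>
        Subtype.ext (Subtype.ext (hM.sylow_comm S _ a.2 _ b.2))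
    haveI : Group.IsSolvable (N ⧸ P.subgroupOf N) := S0205.result (by
      rw [← index_eq_card, Nat.odd_iff, ← Nat.two_dvd_ne_zero]; exact hidx)
    exact (Group.isSolvable_iff_subgroup_quotient (P.subgroupOf N)).2 ⟨inferInstance, inferInstance⟩
  have hsolv : Group.IsSolvable (N ⧸ Cfsg.pPrimeCore 2 N) :=
    Group.isSolvable_of_surjective (QuotientGroup.mk'_surjective _)
  have h25 := S4025.result hM.eqConj_two S n hn ⟨hPc, hM.sylow_sq S⟩ hcard N rfl hsolv
  -- the automizer
  set φ : N →* MulAut P := P.normalizerMonoidHom with hφ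
  have hker : ∀ g : N, φ g = 1 ↔ ∀ a ∈ P, Commute (g : G) a := by
    intro g
    rw [← MonoidHom.mem_ker, hφ, normalizerMonoidHom_ker, mem_subgroupOf, mem_centralizer_iff]
    exact ⟨fun h a ha => (h a ha).symm, fun h a ha => (h a ha).eq.symm⟩
  set K := Cfsg.pPrimeCore 2 N with hK
  have hKker : K ≤ φ.ker := by
    intro k hk
    rw [MonoidHom.mem_ker, hker]
    intro a ha
    have hdisj : K ⊓ P.subgroupOf N = ⊥ := by
      refine inf_eq_bot_of_coprime ?_
      rw [Nat.card_congr (subgroupOfEquivOfLe hPN).toEquiv, hcard]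
      exact Nat.Coprime.pow_right n (Cores.pPrimeCore_card_coprime 2)
    have hc := commute_of_normal_of_disjoint K (P.subgroupOf N) inferInstance hPn
      (disjoint_iff.2 hdisj) k ⟨a, hPN ha⟩ hk ha
    exact congrArg Subtype.val hc.eq
  have hPker : P.subgroupOf N ≤ φ.ker := by
    intro k hk
    rw [MonoidHom.mem_ker, hker]
    exact fun a ha => hM.sylow_comm S k hk a ha
  set A := φ.range with hA
  -- transitivity
  have htrans : ∀ t ∈ P, ∀ s ∈ P, t ≠ 1 → s ≠ 1 → ∃ g ∈ N, g * t * g⁻¹ = s := by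
    intro t ht s hs ht1 hs1
    obtain ⟨d, hd⟩ := isConj_iff.1 (isConj_invol hM.hB (orderOf_eq_prime (hM.sylow_sq S t ht) ht1)
      (orderOf_eq_prime (hM.sylow_sq S s hs) hs1))
    haveI : IsMulCommutative (S : Subgroup G) := hPc
    obtain ⟨g, hg, e⟩ := S.conj_eq_normalizer_conj_of_mem t d⁻¹ ht (by rw [inv_inv, hd]; exact hs)
    exact ⟨g⁻¹, inv_mem hg, by rw [inv_inv, ← e, inv_inv, hd]⟩
  -- the action on `P`
  letI : MulAction A P :=
    { smul := fun σ a => (σ : MulAut P) a
      one_smul := fun _ => rfl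
      mul_smul := fun _ _ _ => rfl }
  have hsmul : ∀ (g : N) (a : P), (((⟨φ g, g, rfl⟩ : A) • a : P) : G) = (g : G) * a * (g : G)⁻¹ :=
    fun g a => rfl
  -- its order
  have hAdvd : ∀ X, Nat.card (N ⧸ K) = X → 2 ^ n * Nat.card A ∣ X := by
    rintro X rfl
    have h1 : K ⊔ P.subgroupOf N ≤ φ.ker := sup_le hKker hPker
    have h2 : Nat.card A ∣ (K ⊔ P.subgroupOf N).index := by
      rw [hA, ← Nat.card_congr (QuotientGroup.quotientKerEquivRange φ).toEquiv, ← index_eq_card]
      exact index_dvd_of_le h1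
    have h3 : (K ⊔ P.subgroupOf N).index * 2 ^ n ∣ Nat.card (N ⧸ K) := by
      rw [← index_eq_card, ← relIndex_mul_index (le_sup_left : K ≤ K ⊔ P.subgroupOf N),
        mul_comm (relIndex _ _)]
      refine Nat.mul_dvd_mul_left _ ?_
      have hdisj : K ⊓ P.subgroupOf N = ⊥ := by
        refine inf_eq_bot_of_coprime ?_
        rw [Nat.card_congr (subgroupOfEquivOfLe hPN).toEquiv, hcard]
        exact Nat.Coprime.pow_right n (Cores.pPrimeCore_card_coprime 2)
      rw [← hcard, ← Nat.card_congr (subgroupOfEquivOfLe hPN).toEquiv]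
      refine dvd_of_eq ?_
      rw [← relIndex_bot_left, ← hdisj, inf_relIndex_right, sup_comm, relIndex_sup_right]
    rw [mul_comm]
    exact (Nat.mul_dvd_mul_right h2 _).trans h3
  obtain ⟨m, hm, hnm, hAm⟩ : ∃ m, m.Prime ∧ ((n = 3 ∧ m = 3) ∨ (n = 5 ∧ m = 5)) ∧
      Nat.card A ∣ (2 ^ n - 1) * m := by
    rcases h25 with ⟨rfl, -, h⟩ | ⟨rfl, -, ⟨e⟩⟩
    · refine ⟨3, Nat.prime_three, Or.inl ⟨rfl, rfl⟩, ?_⟩
      haveI : Finite (GaloisField 2 3) := inferInstance
      rcases h rfl with ⟨⟨e⟩⟩ | ⟨⟨e⟩⟩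
      · have := hAdvd _ ((Nat.card_congr e.toEquiv).trans (Involutions.EqualOrderConj.Frame.natCard_semiaffine _))
        rw [GaloisField.card 2 3 (by norm_num), Involutions.EqualOrderConj.Count.card_ringAut (p := 2)
          (GaloisField.card 2 3 (by norm_num)) (by norm_num)] at this
        exact Nat.dvd_of_mul_dvd_mul_left (by norm_num : 0 < 2 ^ 3) (this.trans (dvd_of_eq (by ring)))
      · have := hAdvd _ ((Nat.card_congr e.toEquiv).trans (Involutions.EqualOrderConj.Frame.natCard_affine _))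
        rw [GaloisField.card 2 3 (by norm_num)] at this
        exact (Nat.dvd_of_mul_dvd_mul_left (by norm_num : 0 < 2 ^ 3)
          (this.trans (dvd_of_eq (by ring)))).trans (dvd_mul_right _ _)
    · refine ⟨5, Nat.prime_five, Or.inr ⟨rfl, rfl⟩, ?_⟩
      have := hAdvd _ ((Nat.card_congr e.toEquiv).trans (Involutions.EqualOrderConj.Frame.natCard_semiaffine _))
      rw [GaloisField.card 2 5 (by norm_num), Involutions.EqualOrderConj.Count.card_ringAut (p := 2)
        (GaloisField.card 2 5 (by norm_num)) (by norm_num)] at this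
      exact Nat.dvd_of_mul_dvd_mul_left (by norm_num : 0 < 2 ^ 5) (this.trans (dvd_of_eq (by ring)))
  have h2n : 8 ≤ 2 ^ n := by
    calc 8 = 2 ^ 3 := by norm_num
      _ ≤ 2 ^ n := Nat.pow_le_pow_right (by norm_num) hn
  -- point stabilizers
  have hstab : ∀ t ∈ P, t ≠ 1 → ∀ ht : t ∈ P, Nat.card (MulAction.stabilizer A (⟨t, ht⟩ : P)) ∣ m := by
    intro t _ ht1 ht
    have horb : MulAction.orbit A (⟨t, ht⟩ : P) = ({1}ᶜ : Set P) := by
      ext s
      constructor
      · rintro ⟨⟨σ, g, rfl⟩, rfl⟩ h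
        refine ht1 (conj_eq_one_iff.1 ((hsmul g _).symm.trans (congrArg Subtype.val h)))
      · intro hs
        obtain ⟨g, hg, e⟩ := htrans t ht s s.2 ht1 fun e => hs (Subtype.ext e)
        exact ⟨⟨_, ⟨g, hg⟩, rfl⟩, Subtype.ext ((hsmul _ _).trans e)⟩
    haveI := Fintype.ofFinite A
    haveI := Fintype.ofFinite (MulAction.orbit A (⟨t, ht⟩ : P))
    haveI := Fintype.ofFinite (MulAction.stabilizer A (⟨t, ht⟩ : P))
    have hos := MulAction.card_orbit_mul_card_stabilizer_eq_card_group A (⟨t, ht⟩ : P)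
    rw [← Nat.card_eq_fintype_card, ← Nat.card_eq_fintype_card, ← Nat.card_eq_fintype_card] at hos
    rw [horb] at hos
    have hoc : Nat.card ({1}ᶜ : Set P) = 2 ^ n - 1 := by
      haveI := Fintype.ofFinite P
      rw [Nat.card_eq_fintype_card, Fintype.card_compl_set, Set.card_singleton,
        ← Nat.card_eq_fintype_card, hcard]
    rw [hoc] at hos
    refine Nat.dvd_of_mul_dvd_mul_left (k := 2 ^ n - 1) (by omega) ?_
    rwa [hos]
  have hmem : ∀ (t : G) (ht : t ∈ P) (g : G) (hg : g ∈ N), Commute g t →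
      (⟨φ ⟨g, hg⟩, _, rfl⟩ : A) ∈ MulAction.stabilizer A (⟨t, ht⟩ : P) := by
    intro t ht g hg hc
    refine Subtype.ext ((hsmul _ _).trans ?_)
    show g * t * g⁻¹ = t
    rw [hc.eq, mul_inv_cancel_right]
  refine ⟨m, hnm, fun t ht ht1 g hg hc a ha => ?_, fun t ht ht1 => ?_, ?_⟩
  · have hpow : (⟨φ ⟨g, hg⟩, _, rfl⟩ : A) ^ m = 1 := by
      have h := hmem t ht g hg hc
      have h1 : (⟨_, h⟩ : MulAction.stabilizer A (⟨t, ht⟩ : P)) ^ m = 1 :=
        orderOf_dvd_iff_pow_eq_one.1 ((_root_.orderOf_dvd_natCard _).trans (hstab t ht ht1 ht))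
      exact congrArg Subtype.val h1
    refine (hker (⟨g, hg⟩ ^ m)).1 ?_ a ha
    rw [map_pow]
    exact congrArg Subtype.val hpow
  · set St := MulAction.stabilizer A (⟨t, ht⟩ : P) with hSt
    haveI := Fintype.ofFinite St
    have hrep : ∀ σ : St, ∃ g : N, φ g = ((σ : A) : MulAut P) := fun σ => (σ : A).2
    choose rep hrep using hrep
    refine ⟨Finset.univ.image fun σ => ((rep σ : N) : G), ?_, fun g hg hc => ?_⟩
    · refine Finset.card_image_le.trans ?_
      rw [Finset.card_univ, ← Nat.card_eq_fintype_card]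
      exact Nat.le_of_dvd hm.pos (hstab t ht ht1 ht)
    · refine ⟨_, Finset.mem_image.2 ⟨⟨_, hmem t ht g hg hc⟩, Finset.mem_univ _, rfl⟩, fun a ha => ?_⟩
      have e := hrep ⟨_, hmem t ht g hg hc⟩
      exact (congrArg (fun σ : MulAut P => ((σ ⟨a, ha⟩ : P) : G)) e).symm
  · intro t ht s hs ht1 hs1 hts g hg hgt hgs
    rw [← hker ⟨g, hg⟩]
    by_contra hne
    set St := MulAction.stabilizer A (⟨t, ht⟩ : P) with hSt
    set σ : St := ⟨_, hmem t ht g hg hgt⟩ with hσ
    have hσ1 : σ ≠ 1 := fun e => hne (congrArg (fun x : St => ((x : A) : MulAut P)) e)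
    have hStm : Nat.card St = m := ((Nat.dvd_prime hm).1 (hstab t ht ht1 ht)).resolve_left fun e => by
      haveI := (Nat.card_eq_one_iff_unique.1 e).1
      exact hσ1 (Subsingleton.elim _ _)
    haveI : Fact m.Prime := ⟨hm⟩
    have hgen : zpowers σ = ⊤ := zpowers_eq_top_of_prime_card hStm hσ1
    haveI := Fintype.ofFinite P
    haveI := Fintype.ofFinite (MulAction.fixedPoints St P)
    have hmod := (IsPGroup.of_card (n := 1) (by rw [hStm, pow_one]) : IsPGroup m St).card_modEq_card_fixedPoints P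
    rw [hcard] at hmod
    -- the fixed points form a subgroup
    let Fx : Subgroup P :=
      { carrier := MulAction.fixedPoints St P
        one_mem' := fun τ => map_one ((τ : A) : MulAut P)
        mul_mem' := fun {x y} hx hy τ => (map_mul ((τ : A) : MulAut P) x y).trans (by
          rw [show ((τ : A) : MulAut P) x = x from hx τ, show ((τ : A) : MulAut P) y = y from hy τ])
        inv_mem' := fun {x} hx τ => (map_inv ((τ : A) : MulAut P) x).trans (by
          rw [show ((τ : A) : MulAut P) x = x from hx τ]) }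
    have hfix : ∀ a : P, Commute g a → a ∈ Fx := fun a ha τ => by
      have h1 : τ ∈ zpowers σ := hgen ▸ mem_top τ
      obtain ⟨i, rfl⟩ := h1
      have h2 : σ ∈ MulAction.stabilizer St a := by
        refine Subtype.ext ((hsmul ⟨g, hg⟩ a).trans ?_)
        show g * a * g⁻¹ = a
        rw [ha.eq, mul_inv_cancel_right]
      exact zpow_mem h2 i
    obtain ⟨k, hk⟩ := (S.2.to_subgroup Fx).exists_card_eq
    rw [show Nat.card (MulAction.fixedPoints St P) = Nat.card Fx from rfl, hk] at hmod
    have hk2 : 2 < 2 ^ k := by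
      rw [← hk]
      haveI := Fintype.ofFinite Fx
      rw [Nat.card_eq_fintype_card]
      refine Fintype.two_lt_card_iff.2 ⟨1, ⟨⟨t, ht⟩, hfix _ hgt⟩, ⟨⟨s, hs⟩, hfix _ hgs⟩, ?_, ?_, ?_⟩
      · exact fun e => ht1 (congrArg (fun x : Fx => ((x : P) : G)) e).symm
      · exact fun e => hs1 (congrArg (fun x : Fx => ((x : P) : G)) e).symm
      · exact fun e => hts (congrArg (fun x : Fx => ((x : P) : G)) e)
    have hkn : 2 ^ k ∣ 2 ^ n := hk ▸ hcard ▸ Fx.card_subgroup_dvd_card
    rw [Nat.pow_dvd_pow_iff_le_right (by norm_num)] at hkn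
    have hk' : k ≠ n := by
      intro e
      have htop : Fx = ⊤ := Fx.eq_top_of_card_eq (by rw [hk, e, hcard])
      refine hne (MulEquiv.ext fun a => ?_)
      exact (htop ▸ mem_top a : a ∈ Fx) σ
    rcases k with - | - | k
    · norm_num at hk2
    · norm_num at hk2
    rcases hnm with ⟨rfl, rfl⟩ | ⟨rfl, rfl⟩
    · obtain rfl : k = 0 := by omega
      exact absurd hmod (by decide)
    · have : k < 3 := by omega
      interval_cases k <;> exact absurd hmod (by decide)

/-- The centralizer of two commuting involutions is solvable. -/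
theorem Setting.solvable_pair {M : Subgroup G} (hM : Setting M) {n : ℕ} (hn : 3 ≤ n) (S₀ : Sylow 2 G)
    (hcard : Nat.card (S₀ : Subgroup G) = 2 ^ n) {t s : G} (ht : orderOf t = 2) (hs : orderOf s = 2)
    (hts : Commute t s) (hne : t ≠ s) :
    Group.IsSolvable (centralizer ({t, s} : Set G)) := by
  haveI : Fact (Nat.Prime 2) := ⟨Nat.prime_two⟩
  have hp : IsPGroup 2 (closure ({t, s} : Set G)) := by
    intro x
    refine ⟨1, Subtype.ext ?_⟩
    have hxm : (x : G) ∈ closure ({t, s} : Set G) := x.2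
    have : (x : G) ^ 2 = 1 ∧ Commute (x : G) t ∧ Commute (x : G) s := by
      have ht2 : t ^ 2 = 1 := by rw [← ht]; exact pow_orderOf_eq_one t
      have hs2 : s ^ 2 = 1 := by rw [← hs]; exact pow_orderOf_eq_one s
      generalize (x : G) = y at hxm
      induction hxm using Subgroup.closure_induction_left with
      | one => exact ⟨one_pow 2, Commute.one_left _, Commute.one_left _⟩
      | mul_left z hz w _ ih =>
        rcases hz with rfl | rfl
        · exact ⟨by rw [ih.2.1.symm.mul_pow, ht2, ih.1, one_mul],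
            (Commute.refl _).mul_left ih.2.1, hts.mul_left ih.2.2⟩
        · exact ⟨by rw [ih.2.2.symm.mul_pow, hs2, ih.1, one_mul],
            hts.symm.mul_left ih.2.1, (Commute.refl _).mul_left ih.2.2⟩
      | inv_mul_cancel z hz w _ ih =>
        rcases hz with rfl | rfl
        · exact ⟨by rw [ih.2.1.symm.inv_left.mul_pow, inv_pow, ht2, inv_one, ih.1, one_mul],
            (Commute.refl _).inv_left.mul_left ih.2.1, hts.inv_left.mul_left ih.2.2⟩
        · exact ⟨by rw [ih.2.2.symm.inv_left.mul_pow, inv_pow, hs2, inv_one, ih.1, one_mul],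
            hts.symm.inv_left.mul_left ih.2.1, (Commute.refl _).inv_left.mul_left ih.2.2⟩
    simpa using this.1
  obtain ⟨T, hT⟩ := hp.exists_le_sylow
  have htT : t ∈ (T : Subgroup G) := hT (subset_closure (by simp))
  have hsT : s ∈ (T : Subgroup G) := hT (subset_closure (by simp))
  set C := centralizer ({t, s} : Set G) with hC
  have hTC : (T : Subgroup G) ≤ C := fun a ha => mem_centralizer_iff.2 fun x hx => by
    rcases hx with rfl | rfl
    · exact hM.sylow_comm T _ htT _ ha
    · exact hM.sylow_comm T _ hsT _ ha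
  obtain ⟨m, -, -, -, h2⟩ := hM.automizer T hn (by rw [← hcard]; exact Nat.card_congr (T.equiv S₀).toEquiv)
  have ht1 : t ≠ 1 := fun e => by rw [e, orderOf_one] at ht; omega
  have hs1 : s ≠ 1 := fun e => by rw [e, orderOf_one] at hs; omega
  refine isSolvable_of_centralizing (T.subtype hTC) (fun a ha b hb => ?_) fun g hg => ?_
  · exact Subtype.ext (hM.sylow_comm T _ ha _ hb)
  · refine mem_centralizer_iff.2 fun a ha => Subtype.ext ?_
    refine ((h2 t htT s hsT ht1 hs1 hne g ?_ ?_ ?_ a ha).eq).symm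
    · refine mem_normalizer_iff.2 fun x => ⟨fun hx => ?_, fun hx => ?_⟩
      · exact (mem_normalizer_iff.1 hg ⟨x, hTC hx⟩).1 hx
      · have hy := (mem_normalizer_iff.1 hg (g⁻¹ * ⟨_, hTC hx⟩ * g)).2
          (show g * (g⁻¹ * ⟨_, hTC hx⟩ * g) * g⁻¹ ∈ (T : Subgroup G).subgroupOf C by
            rw [show g * (g⁻¹ * (⟨_, hTC hx⟩ : C) * g) * g⁻¹ = ⟨_, hTC hx⟩ by group]; exact hx)
        simpa [mem_subgroupOf, mul_assoc] using hy
    · exact (mem_centralizer_iff.1 g.2 t (by simp)).symm
    · exact (mem_centralizer_iff.1 g.2 s (by simp)).symm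

end Cfsg.Agent.EqAbConj
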