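import Cfsg.Agent.Lib.EqAbConj.Small
import Cfsg.Agent.Lib.EqAbConj.Janko
import Cfsg.Agent.Lib.EqConjOdd.Centralizer
import Cfsg.Agent.Lib.EqConjOdd.Endgame
import Cfsg.Agent.S3908
import Cfsg.Agent.S3911

/-!
# Simple normal subgroups when abelian subgroups of equal order are conjugate
-/

set_option autoImplicit false
set_option linter.style.haveILetI false
set_option linter.unusedSectionVars false

namespace Cfsg.Agent.EqAbConj

open Subgroup

universe u

/-- The three possibilities. -/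
def Concl (M : Type u) [Group M] : Prop :=
  (∃ (F : Type) (_ : Field F) (_ : Fintype F), (Fintype.card F = 2 ^ 2 ∨ Fintype.card F = 2 ^ 3 ∨
      Fintype.card F = 2 ^ 5) ∧ Nonempty (M ≃* Matrix.SpecialLinearGroup (Fin 2) F)) ∨
  (∃ (F : Type) (_ : Field F) (_ : Fintype F), 5 ≤ Fintype.card F ∧
      (Fintype.card F % 8 = 3 ∨ Fintype.card F % 8 = 5) ∧
        Nonempty (M ≃* Matrix.ProjectiveSpecialLinearGroup (Fin 2) F)) ∨
  Cfsg.Spor.IsoJ1 M

theorem Concl.of_equiv {M M' : Type u} [Group M] [Group M'] (h : Concl M) (e : M' ≃* M) : Concl M' := by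
  rcases h with ⟨F, i1, i2, hc, ⟨f⟩⟩ | ⟨F, i1, i2, h5, hc, ⟨f⟩⟩ | ⟨⟨f⟩⟩
  · exact Or.inl ⟨F, i1, i2, hc, ⟨e.trans f⟩⟩
  · exact Or.inr (Or.inl ⟨F, i1, i2, h5, hc, ⟨e.trans f⟩⟩)
  · exact Or.inr (Or.inr ⟨e.trans f⟩)

variable {G : Type u} [Group G] [Finite G]

theorem oddSylow_of_hyp (hB : GenA.AbelianConj.Hyp G) : EqConjOdd.OddSylow G :=
  fun r _ hr2 P => (S3908.result hB).2 r hr2 P

/-- The centralizer of an element of `M` contains its centralizer in `M`. -/
theorem isSolvable_centralizer_of {M : Subgroup G} (t : M)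
    (h : Group.IsSolvable (centralizer ({(t : G)} : Set G))) :
    Group.IsSolvable (centralizer ({t} : Set M)) := by
  haveI := h
  exact Group.isSolvable_of_isSolvable_injective
    (f := (M.subtype.comp (centralizer ({t} : Set M)).subtype).codRestrict
      (centralizer ({(t : G)} : Set G)) fun c =>
        mem_centralizer_singleton_iff.2 (congrArg Subtype.val (mem_centralizer_singleton_iff.1 c.2) :))
    fun a b h => Subtype.ext (Subtype.ext (congrArg Subtype.val h :))

theorem main_core {M : Subgroup G} (hM : Setting M) (hO : Cfsg.oddCore G = ⊥) : Concl M := by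
  haveI : Fact (Nat.Prime 2) := ⟨Nat.prime_two⟩
  haveI := hM.normal
  obtain ⟨S⟩ : Nonempty (Sylow 2 G) := inferInstance
  obtain ⟨n, hn⟩ := S.2.exists_card_eq
  have h2 := hM.two_le S hn
  rcases Nat.lt_or_ge n 3 with h3 | h3
  · obtain rfl : n = 2 := by omega
    exact Or.inr (Or.inl (hM.four_case S (hn.trans (by norm_num))))
  by_cases hC : ∀ t : M, orderOf t = 2 → Group.IsSolvable (centralizer ({t} : Set M))
  · exact Or.inl (hM.solvable_case S h3 hn hC)
  push Not at hC
  obtain ⟨t, ht, hns⟩ := hC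
  have htG : orderOf (t : G) = 2 := by rw [Subgroup.orderOf_coe, ht]
  obtain ⟨T, hT⟩ := (IsPGroup.of_card (n := 1) (G := zpowers (t : G))
    (by rw [Nat.card_zpowers, htG, pow_one])).exists_le_sylow
  have htT : (t : G) ∈ (T : Subgroup G) := hT (mem_zpowers _)
  have hTc : Nat.card (T : Subgroup G) = 2 ^ n := by
    rw [← hn]; exact Nat.card_congr (T.equiv S).toEquiv
  have hnsG : ¬ Group.IsSolvable (centralizer ({(t : G)} : Set G)) := fun h =>
    hns (isSolvable_centralizer_of t h)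
  obtain ⟨m, hnm, -⟩ := hM.automizer S h3 hn
  rcases hnm with ⟨rfl, -⟩ | ⟨rfl, -⟩
  swap
  · exact absurd (hM.solvable_five T hTc htT htG) hnsG
  have hT8 : EqConjOdd.Eight T := ⟨hTc.trans (by norm_num), hM.sylow_comm T, hM.sylow_sq T⟩
  obtain ⟨F, iF, iT, p, f, ip, hF, hf, hmod, h5, hshape⟩ :=
    EqConjOdd.exists_shape2 (EqConjOdd.fusion_of_hyp hM.hB) hT8 htT htG hnsG
  have hcyc := EqConjOdd.cycConj_of_hyp hM.hB
  have hJ : Cfsg.IsJ1 G := EqConjOdd.janko_of_shape_cyc hcyc (oddSylow_of_hyp hM.hB) hO T hT8.card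
    hT8.comm hT8.exp hmod h5 hF hf hshape fun h27 =>
      EqConjOdd.not_eightyone (fun s hs => by
        obtain ⟨K, h1, h2, h3, h4, h5'⟩ := hshape s hs
        exact ⟨K, ⟨h1, h2, h3, h4, h5'⟩⟩) T hT8.card hT8.comm hT8.exp hcyc hF h27
  haveI := hJ.1
  have htop : M = ⊤ := (IsSimpleGroup.eq_bot_or_eq_top_of_normal M hM.normal).resolve_left fun e => by
    have h1 : t = 1 := Subtype.ext (mem_bot.1 (e ▸ t.2 : (t : G) ∈ (⊥ : Subgroup G)))
    rw [h1, orderOf_one] at ht
    omega
  obtain ⟨e⟩ := isoJ1_of_isJ1 hJ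
  exact Or.inr (Or.inr ⟨((MulEquiv.subgroupCongr htop).trans Subgroup.topEquiv).trans e⟩)

theorem main (hB : GenA.AbelianConj.Hyp G) (M : Subgroup G) [hn : M.Normal] (hs : IsSimpleGroup M)
    (hna : ¬ IsMulCommutative M) : Concl M := by
  haveI := hs
  set O := Cfsg.oddCore G with hOdef
  have hMO : M ⊓ O = ⊥ := by
    rcases IsSimpleGroup.eq_bot_or_eq_top_of_normal (O.subgroupOf M) inferInstance with e | e
    · rw [inf_comm, eq_bot_iff]
      intro x hx
      have h1 : (⟨x, hx.2⟩ : M) ∈ O.subgroupOf M := hx.1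
      rw [e, mem_bot] at h1
      exact congrArg Subtype.val h1
    · exfalso
      have hodd : Odd (Nat.card M) :=
        (Agent.Cores.oddCore_odd (G := G)).of_dvd_nat (card_dvd_of_le (subgroupOf_eq_top.1 e))
      haveI := S0205.result (G := M) hodd
      exact hna ⟨⟨IsSimpleGroup.comm_iff_isSolvable.2 inferInstance⟩⟩
  set π := QuotientGroup.mk' O with hπ
  have hinj : Function.Injective (π.comp M.subtype) := (injective_iff_map_eq_one _).2 fun x hx => by
    have h1 : (x : G) ∈ M ⊓ O := ⟨x.2, (QuotientGroup.eq_one_iff _).1 hx⟩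
    rw [hMO, mem_bot] at h1
    exact Subtype.ext h1
  have e : M ≃* M.map π := by
    refine (MonoidHom.ofInjective hinj).trans (MulEquiv.subgroupCongr ?_)
    rw [MonoidHom.range_comp, range_subtype]
  haveI : (M.map π).Normal := hn.map π (QuotientGroup.mk'_surjective O)
  have hq : Setting (M.map π) := by
    refine ⟨fun A B hA hB' hc => S3911.result hB O Agent.Cores.oddCore_odd A B hA hB' hc, inferInstance,
      CyclicSylowInter.isSimpleGroup_congr e, fun hc => hna ?_⟩
    exact ⟨⟨fun a b => e.injective (by rw [map_mul, map_mul]; exact hc.is_comm.comm _ _)⟩⟩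
  exact (main_core hq (Cores.pPrimeCore_quotient_self 2)).of_equiv e

end Cfsg.Agent.EqAbConj
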