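import Cfsg.Agent.Lib.EqAbConj.Basic
import Cfsg.Agent.Lib.SEAbelian.ReduceSimple
import Cfsg.Agent.Lib.SEAbelian.Main
import Cfsg.Agent.Lib.GW.MainFinal
import Cfsg.Agent.Lib.EqConjOdd.FourCase
import Cfsg.Agent.Lib.PSLBinary.Classify
import Cfsg.Agent.S0813
import Cfsg.Agent.Lib.EqConjOdd.Tools

/-!
# The cases with small or solvable centralizers of involutions
-/

set_option autoImplicit false
set_option linter.style.haveILetI false
set_option linter.unusedSectionVars false

namespace Cfsg.Agent.EqAbConj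

open Subgroup
open scoped commutatorElement

universe u

variable {G : Type u} [Group G] [Finite G]

/-- `PSL₂` in characteristic two is `SL₂`. -/
theorem nonempty_sl {F : Type} [Field F] [Fintype F] {m : ℕ} (hm : 1 ≤ m) (hF : Fintype.card F = 2 ^ m) :
    Nonempty (Matrix.ProjectiveSpecialLinearGroup (Fin 2) F ≃* Matrix.SpecialLinearGroup (Fin 2) F) := by
  have h1 : Nat.card (center (Matrix.SpecialLinearGroup (Fin 2) F)) = 1 := by
    rw [Classical.Linear.natCard_center_SL, Fintype.card_fin, hF]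
    have : 2 ∣ 2 ^ m := dvd_pow_self 2 (by omega)
    have h2 := Nat.gcd_dvd_right 2 (2 ^ m - 1)
    rcases (Nat.dvd_prime Nat.prime_two).1 (Nat.gcd_dvd_left 2 (2 ^ m - 1)) with e | e
    · exact e
    · rw [e] at h2
      have := Nat.two_pow_pos m
      omega
  exact ⟨(QuotientGroup.quotientMulEquivOfEq (Subgroup.card_eq_one.1 h1)).trans QuotientGroup.quotientBot⟩

/-- The 2-part of `Aut L₂(q)` is below sixteen for `q ≡ ±3 (mod 8)` and for `q ∈ {4, 8}`. -/
theorem sixteen_not_dvd_aut {F : Type} [Field F] [Fintype F]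
    (hq : ((Fintype.card F % 8 = 3 ∨ Fintype.card F % 8 = 5) ∧ 5 ≤ Fintype.card F) ∨
      Fintype.card F = 4 ∨ Fintype.card F = 8) :
    ¬ 16 ∣ Nat.card (MulAut (Matrix.ProjectiveSpecialLinearGroup (Fin 2) F)) := by
  obtain ⟨p, hchar⟩ := CharP.exists F
  obtain ⟨f, hp, hF⟩ := FiniteField.card F p
  haveI : Fact p.Prime := ⟨hp⟩
  have h4 : 4 ≤ Fintype.card F := by omega
  rw [S0813.result (F := F) p f f.pos hF 2 le_rfl (fun _ => hF ▸ h4), if_pos rfl, one_mul,
    Classical.Linear.natCard_PGL, Classical.GL2.natCard_SL_two]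
  rcases hq with ⟨hmod, -⟩ | h | h
  · have hp2 : p ≠ 2 := by
      rintro rfl
      rw [hF] at hmod
      have : 2 ∣ 2 ^ (f : ℕ) := dvd_pow_self 2 f.ne_zero
      omega
    have hpf := EqConjOdd.pow_mod_eight (f := (f : ℕ)) (hp.eq_two_or_odd.resolve_left hp2)
    rw [← hF] at hpf
    have hfodd : Odd (f : ℕ) := by
      rw [Nat.odd_iff]
      by_contra hcon
      rw [if_pos (by omega)] at hpf
      omega
    intro h
    have h2 := (Nat.Coprime.pow_left 4 (Nat.coprime_two_left.2 hfodd)).dvd_of_dvd_mul_left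
      (show 2 ^ 4 ∣ (f : ℕ) * _ from by norm_num; exact h)
    obtain ⟨k, hk⟩ : ∃ k, Fintype.card F = 8 * k + 3 ∨ Fintype.card F = 8 * k + 5 :=
      ⟨Fintype.card F / 8, by omega⟩
    obtain ⟨j, hj⟩ := h2
    rcases hk with hk | hk <;> rw [hk] at hj
    · rw [show 8 * k + 3 - 1 = 8 * k + 2 by omega] at hj
      have h' : 2 * j = (8 * k + 3) * ((4 * k + 1) * (2 * k + 1)) := by nlinarith [hj]
      have h'' : (2 * j) % 2 = ((8 * k + 3) * ((4 * k + 1) * (2 * k + 1))) % 2 := by rw [h']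
      simp [Nat.mul_mod, Nat.add_mod] at h''
    · rw [show 8 * k + 5 - 1 = 8 * k + 4 by omega] at hj
      have h' : 2 * j = (8 * k + 5) * ((2 * k + 1) * (4 * k + 3)) := by nlinarith [hj]
      have h'' : (2 * j) % 2 = ((8 * k + 5) * ((2 * k + 1) * (4 * k + 3))) % 2 := by rw [h']
      simp [Nat.mul_mod, Nat.add_mod] at h''
  · have hpf : p = 2 ∧ (f : ℕ) = 2 := by
      rw [hF] at h
      have h2 : p = 2 := (Nat.prime_dvd_prime_iff_eq hp Nat.prime_two).1
        (hp.dvd_of_dvd_pow (show p ∣ 2 ^ 2 by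
          rw [show (2 : ℕ) ^ 2 = 4 by norm_num, ← h]; exact dvd_pow_self p f.ne_zero))
      subst h2
      exact ⟨rfl, Nat.pow_right_injective le_rfl (h.trans (by norm_num : (4 : ℕ) = 2 ^ 2))⟩
    rw [hpf.2, h]
    norm_num
  · have hpf : p = 2 ∧ (f : ℕ) = 3 := by
      rw [hF] at h
      have h2 : p = 2 := (Nat.prime_dvd_prime_iff_eq hp Nat.prime_two).1
        (hp.dvd_of_dvd_pow (show p ∣ 2 ^ 3 by
          rw [show (2 : ℕ) ^ 3 = 8 by norm_num, ← h]; exact dvd_pow_self p f.ne_zero))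
      subst h2
      exact ⟨rfl, Nat.pow_right_injective le_rfl (h.trans (by norm_num : (8 : ℕ) = 2 ^ 3))⟩
    rw [hpf.2, h]
    norm_num

namespace Setting

variable {M : Subgroup G} (hM : Setting M)
include hM

theorem oddCore_M : Cfsg.oddCore M = ⊥ := by
  haveI := hM.simple
  refine (IsSimpleGroup.eq_bot_or_eq_top_of_normal _ inferInstance).resolve_right fun e => ?_
  have hodd := Agent.Cores.oddCore_odd (G := M)
  rw [e, Subgroup.card_top] at hodd
  haveI := S0205.result (G := M) hodd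
  exact hM.ncomm ⟨⟨IsSimpleGroup.comm_iff_isSolvable.2 inferInstance⟩⟩

theorem abTwo_M : SEAbelian.AbTwo M := by
  intro P hP a ha b hb
  haveI : Fact (Nat.Prime 2) := ⟨Nat.prime_two⟩
  obtain ⟨S, hS⟩ := (hP.map M.subtype).exists_le_sylow
  exact Subtype.ext (hM.sylow_comm S _ (hS ⟨a, ha, rfl⟩) _ (hS ⟨b, hb, rfl⟩))

theorem two_le (S : Sylow 2 G) {n : ℕ} (hcard : Nat.card (S : Subgroup G) = 2 ^ n) : 2 ≤ n := by
  haveI : Fact (Nat.Prime 2) := ⟨Nat.prime_two⟩
  obtain ⟨a, b, -, -, ha, hb, hab, hne⟩ := hM.exists_pair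
  have ha2 : a ^ 2 = 1 := by rw [← ha]; exact pow_orderOf_eq_one a
  have hb2 : b ^ 2 = 1 := by rw [← hb]; exact pow_orderOf_eq_one b
  have ha1 : a ≠ 1 := fun e => by rw [e, orderOf_one] at ha; omega
  have hb1 : b ≠ 1 := fun e => by rw [e, orderOf_one] at hb; omega
  have hbz : b ∉ zpowers a := by
    intro h
    obtain ⟨i, hi⟩ := mem_zpowers_iff.1 h
    rcases Int.even_or_odd' i with ⟨j, rfl | rfl⟩
    · rw [zpow_mul, zpow_two, ← pow_two, ha2, one_zpow] at hi
      exact hb1 hi.symm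
    · rw [zpow_add, zpow_mul, zpow_two, ← pow_two, ha2, one_zpow, one_mul, zpow_one] at hi
      exact hne hi
  obtain ⟨h4, -, -⟩ := EqualOrderConj.pair_data (p := 2) ha2 ha1 hb2 hbz hab.symm.eq
  obtain ⟨T, hT⟩ := (IsPGroup.of_card h4).exists_le_sylow
  have h := card_dvd_of_le hT
  rw [h4, Nat.card_congr (T.equiv S).toEquiv, hcard] at h
  exact (Nat.pow_dvd_pow_iff_le_right (by norm_num)).1 h

/-- Sylow subgroups of order four. -/
theorem four_case (S : Sylow 2 G) (h4 : Nat.card (S : Subgroup G) = 4) :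
    ∃ (F : Type) (_ : Field F) (_ : Fintype F), 5 ≤ Fintype.card F ∧
      (Fintype.card F % 8 = 3 ∨ Fintype.card F % 8 = 5) ∧
      Nonempty (M ≃* Matrix.ProjectiveSpecialLinearGroup (Fin 2) F) := by
  haveI : Fact (Nat.Prime 2) := ⟨Nat.prime_two⟩
  haveI := hM.simple
  set T : Sylow 2 M := S.subtype (hM.sylow_le S) with hT
  have hT4 : Nat.card (T : Subgroup M) = 4 := by
    rw [hT, Sylow.coe_subtype, Nat.card_congr (subgroupOfEquivOfLe (hM.sylow_le S)).toEquiv, h4]
  haveI : Nontrivial (T : Subgroup M) := Finite.one_lt_card_iff_nontrivial.1 (by omega)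
  haveI : IsKleinFour (T : Subgroup M) := ⟨hT4, by
    refine ((Nat.dvd_prime Nat.prime_two).1 (Monoid.exponent_dvd_of_forall_pow_eq_one fun g =>
      Subtype.ext (Subtype.ext (hM.sylow_sq S ((g : M) : G) g.2)))).resolve_left fun e1 => ?_
    exact not_subsingleton (T : Subgroup M) (Monoid.exp_eq_one_iff.1 e1)⟩
  obtain ⟨eT⟩ : Nonempty ((T : Subgroup M) ≃* DihedralGroup 2) := IsKleinFour.nonempty_mulEquiv
  haveI : Group.IsPerfect M := ⟨by
    refine (IsSimpleGroup.eq_bot_or_eq_top_of_normal (_root_.commutator M) inferInstance).resolve_left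
      fun hb => hM.ncomm ⟨⟨fun a b => ?_⟩⟩
    have h1 : ⁅a, b⁆ ∈ _root_.commutator M :=
      Subgroup.commutator_mem_commutator (mem_top a) (mem_top b)
    rw [hb, mem_bot] at h1
    exact commutatorElement_eq_one_iff_mul_comm.1 h1⟩
  have h8 := EqConjOdd.not_eight_of_four T hT4
  let eM : M ⧸ Cfsg.oddCore M ≃* M :=
    (QuotientGroup.quotientMulEquivOfEq hM.oddCore_M).trans QuotientGroup.quotientBot
  rcases GW.perfectGW T 2 le_rfl ⟨eT⟩ with ⟨F, i1, i2, hodd, h3, ⟨e⟩⟩ | ⟨⟨e⟩⟩
  · have hcard : 2 * Nat.card M = Fintype.card F * ((Fintype.card F - 1) * (Fintype.card F + 1)) := by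
      rw [← Nat.card_congr eM.toEquiv, Nat.card_congr e.toEquiv, ← Forms.DicksonCor.gcd_mul_natCard (F := F)]
      congr 1
      exact (Nat.gcd_eq_left (Nat.dvd_of_mod_eq_zero (by have := Nat.odd_iff.1 hodd; omega))).symm
    have hmod := EqConjOdd.mod_eight hodd hcard h8
    exact ⟨F, i1, i2, by omega, hmod, ⟨eM.symm.trans e⟩⟩
  · refine absurd (Dvd.intro 315 ?_) h8
    rw [← Nat.card_congr eM.toEquiv, Nat.card_congr e.toEquiv, nat_card_alternatingGroup, Nat.card_fin]
    norm_num [Nat.factorial]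

/-- Solvable centralizers give `L₂(2ⁿ)`. -/
theorem solvable_case (S : Sylow 2 G) {n : ℕ} (hn : 3 ≤ n) (hcard : Nat.card (S : Subgroup G) = 2 ^ n)
    (hC : ∀ t : M, orderOf t = 2 → Group.IsSolvable (centralizer ({t} : Set M))) :
    ∃ (F : Type) (_ : Field F) (_ : Fintype F),
      (Fintype.card F = 2 ^ 2 ∨ Fintype.card F = 2 ^ 3 ∨ Fintype.card F = 2 ^ 5) ∧
        Nonempty (M ≃* Matrix.SpecialLinearGroup (Fin 2) F) := by
  haveI : Fact (Nat.Prime 2) := ⟨Nat.prime_two⟩
  haveI := hM.simple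
  obtain ⟨F, i1, i2, hq, ⟨e⟩⟩ :=
    SEAbelian.simpleCase SEAbelian.coreLemma M hM.ncomm hM.abTwo_M hC
  set T : Sylow 2 M := S.subtype (hM.sylow_le S) with hT
  have hTc : Nat.card (T : Subgroup M) = 2 ^ n := by
    rw [hT, Sylow.coe_subtype, Nat.card_congr (subgroupOfEquivOfLe (hM.sylow_le S)).toEquiv, hcard]
  have hdvd : 2 ^ n ∣ Nat.card M := hTc ▸ (T : Subgroup M).card_subgroup_dvd_card
  obtain ⟨m, -, hnm, -⟩ : ∃ m, True ∧ ((n = 3 ∧ m = 3) ∨ (n = 5 ∧ m = 5)) ∧ True := by
    obtain ⟨m, h, -⟩ := hM.automizer S hn hcard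
    exact ⟨m, trivial, h, trivial⟩
  rw [Nat.card_congr e.toEquiv] at hdvd
  rcases hq with ⟨hmod, h5⟩ | ⟨k, hk2, hk⟩
  · exfalso
    have hcard' : 2 * Nat.card (Matrix.ProjectiveSpecialLinearGroup (Fin 2) F) =
        Fintype.card F * ((Fintype.card F - 1) * (Fintype.card F + 1)) := by
      rw [← Forms.DicksonCor.gcd_mul_natCard (F := F)]
      congr 1
      exact (Nat.gcd_eq_left (Nat.dvd_of_mod_eq_zero (by omega))).symm
    exact EqConjOdd.not_eight_dvd hmod hcard' ((pow_dvd_pow 2 hn).trans hdvd)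
  · obtain ⟨eS⟩ := nonempty_sl (by omega) hk
    have hMc : Nat.card M = 2 ^ k * ((2 ^ k - 1) * (2 ^ k + 1)) := by
      rw [Nat.card_congr (e.trans eS).toEquiv, Classical.GL2.natCard_SL_two, hk]
    have hkn : k = n := by
      have hodd1 : ¬ 2 ∣ (2 ^ k - 1) * (2 ^ k + 1) := by
        have h2k : 2 ∣ 2 ^ k := dvd_pow_self 2 (by omega)
        have := Nat.two_pow_pos k
        rw [Nat.prime_two.dvd_mul]
        omega
      have h1 : (Nat.card M).factorization 2 = k := by
        rw [hMc, Nat.factorization_mul (Nat.two_pow_pos k).ne' (fun h0 => hodd1 (by rw [h0]; exact dvd_zero 2)),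
          Finsupp.add_apply, Nat.factorization_eq_zero_of_not_dvd hodd1, add_zero,
          Nat.Prime.factorization_pow Nat.prime_two, Finsupp.single_eq_same]
      have h2 := T.card_eq_multiplicity
      rw [h1, hTc] at h2
      exact (Nat.pow_right_injective le_rfl h2).symm
    subst hkn
    refine ⟨F, i1, i2, ?_, ⟨e.trans eS⟩⟩
    rcases hnm with ⟨rfl, -⟩ | ⟨rfl, -⟩
    · exact Or.inr (Or.inl hk)
    · exact Or.inr (Or.inr hk)

/-- For a Sylow subgroup of order `32` all centralizers of involutions are solvable. -/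
theorem solvable_five (S : Sylow 2 G) (hcard : Nat.card (S : Subgroup G) = 2 ^ 5) {t : G}
    (htS : t ∈ (S : Subgroup G)) (ht : orderOf t = 2) :
    Group.IsSolvable (centralizer ({t} : Set G)) := by
  classical
  haveI : Fact (Nat.Prime 2) := ⟨Nat.prime_two⟩
  obtain ⟨m, hnm, -, hR, -⟩ := hM.automizer S (by norm_num) hcard
  obtain ⟨-, rfl⟩ : (5 : ℕ) = 5 ∧ m = 5 := by rcases hnm with ⟨h, -⟩ | h <;> [omega; exact h]
  have ht1 : t ≠ 1 := fun e => by rw [e, orderOf_one] at ht; omega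
  have ht2 : t ^ 2 = 1 := by rw [← ht]; exact pow_orderOf_eq_one t
  obtain ⟨R, hRc, hRr⟩ := hR t htS ht1
  set X := centralizer ({t} : Set G) with hX
  have hSX : (S : Subgroup G) ≤ X := fun a ha =>
    mem_centralizer_singleton_iff.2 (hM.sylow_comm S a ha t htS)
  set tX : X := ⟨t, hSX htS⟩ with htX
  set Z := zpowers tX with hZ
  haveI : Z.Normal := ⟨fun z hz g => by
    have hc : g * tX * g⁻¹ = tX := Subtype.ext (show (g : G) * t * (g : G)⁻¹ = t by
      rw [mem_centralizer_singleton_iff.1 g.2, mul_inv_cancel_right])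
    obtain ⟨i, rfl⟩ := mem_zpowers_iff.1 hz
    rw [← conj_zpow, hc]
    exact zpow_mem (mem_zpowers _) i⟩
  have hZmem : ∀ z ∈ Z, (z : G) = 1 ∨ (z : G) = t := by
    intro z hz
    obtain ⟨i, rfl⟩ := mem_zpowers_iff.1 hz
    rw [SubgroupClass.coe_zpow]
    rcases Int.even_or_odd' i with ⟨j, rfl | rfl⟩
    · exact Or.inl (by rw [zpow_mul, zpow_two, ← pow_two, ht2, one_zpow])
    · exact Or.inr (by rw [zpow_add, zpow_mul, zpow_two, ← pow_two, ht2, one_zpow, one_mul, zpow_one])
  -- centralizers in the quotient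
  have hCq : ∀ u : X ⧸ Z, orderOf u = 2 → Group.IsSolvable (centralizer ({u} : Set (X ⧸ Z))) := by
    intro u hu
    obtain ⟨x, rfl⟩ := QuotientGroup.mk_surjective u
    have hxZ : x ^ 2 ∈ Z := by
      rw [← QuotientGroup.eq_one_iff, QuotientGroup.mk_pow, ← hu]
      exact pow_orderOf_eq_one _
    have hxn : x ∉ Z := fun h => by
      rw [(QuotientGroup.eq_one_iff x).2 h, orderOf_one] at hu
      omega
    have hx2 : (x : G) ^ 2 = 1 := by
      refine hM.sq_eq_one (k := 2) ?_
      rw [pow_two 2, pow_mul, ← Subgroup.coe_pow]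
      rcases hZmem _ hxZ with e | e <;> rw [e]
      · exact one_pow 2
      · exact ht2
    have hx1 : (x : G) ≠ 1 := fun e => hxn (by
      rw [show x = 1 from Subtype.ext e]; exact one_mem Z)
    have hxo : orderOf (x : G) = 2 := orderOf_eq_prime hx2 hx1
    have hxt : Commute t (x : G) := (mem_centralizer_singleton_iff.1 x.2).symm
    have hne : t ≠ (x : G) := fun e => hxn (by
      rw [show x = tX from Subtype.ext e.symm]; exact mem_zpowers _)
    haveI hsolv : Group.IsSolvable (centralizer ({t, (x : G)} : Set G)) :=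
      hM.solvable_pair (by norm_num) S hcard ht hxo hxt hne
    set D := (centralizer ({(x : X ⧸ Z)} : Set (X ⧸ Z))).comap (QuotientGroup.mk' Z) with hD
    have hDle : ∀ g : X, g ∈ D → (g : G) ∈ centralizer ({t, (x : G)} : Set G) := by
      intro g hg
      have hgt : Commute (g : G) t := mem_centralizer_singleton_iff.1 g.2
      rw [hD, mem_comap, mem_centralizer_singleton_iff, QuotientGroup.mk'_apply, ← QuotientGroup.mk_mul,
        ← QuotientGroup.mk_mul, eq_comm, QuotientGroup.eq] at hg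
      set K := centralizer ({t, (x : G)} : Set G) with hK
      have hconj : (g : G) * x * (g : G)⁻¹ = x ∨ (g : G) * x * (g : G)⁻¹ = x * t := by
        rcases hZmem _ hg with e | e
        · left
          simp only [Subgroup.coe_mul, InvMemClass.coe_inv, inv_mul_eq_one] at e
          rw [← e, mul_inv_cancel_right]
        · right
          simp only [Subgroup.coe_mul, InvMemClass.coe_inv] at e
          rw [inv_mul_eq_iff_eq_mul] at e
          rw [e]
          calc (x : G) * g * t * (g : G)⁻¹ = x * (g * t) * (g : G)⁻¹ := by group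
            _ = x * (t * g) * (g : G)⁻¹ := by rw [hgt.eq]
            _ = x * t := by group
      have h2 : (g : G) ^ 2 ∈ K := by
        refine mem_centralizer_iff.2 fun y hy => ?_
        rcases hy with rfl | rfl
        · exact (hgt.pow_left 2).eq.symm
        · refine (mul_inv_eq_iff_eq_mul.1 ?_).symm
          rcases hconj with e | e
          · rw [pow_two, show (g : G) * g * x * ((g : G) * g)⁻¹ =
              (g : G) * ((g : G) * x * (g : G)⁻¹) * (g : G)⁻¹ by group, e, e]
          · rw [pow_two, show (g : G) * g * x * ((g : G) * g)⁻¹ =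
              (g : G) * ((g : G) * x * (g : G)⁻¹) * (g : G)⁻¹ by group, e, ← conj_mul, e,
              hgt.eq, mul_inv_cancel_right, mul_assoc, ← pow_two, ht2, mul_one]
      obtain ⟨j, k, hk, hgk⟩ := SEAbelian.exists_parts (g : G)
      refine SEAbelian.mem_of_parts (j := 1) hk (by rwa [pow_one]) ?_
      -- the 2-part normalizes a four-group
      set V := closure ({t, (x : G)} : Set G) with hV
      set h := (g : G) ^ k with hh
      have hhp : IsPGroup 2 (zpowers h) := SEAbelian.isPGroup_zpowers (k := j) (by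
        rw [hh, ← pow_mul, mul_comm, hgk])
      have htV : t ∈ V := subset_closure (by simp)
      have hxV : (x : G) ∈ V := subset_closure (by simp)
      have hgN : (g : G) ∈ normalizer (V : Set G) := by
        refine EqualOrderConj.mem_normalizer_of_conj_mem fun y hy => ?_
        have hle : V ≤ V.comap (MulAut.conj (g : G)).toMonoidHom := by
          refine (closure_le _).2 fun z hz => ?_
          show (g : G) * z * (g : G)⁻¹ ∈ V
          rcases hz with rfl | rfl
          · rw [hgt.eq, mul_inv_cancel_right]; exact htV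
          · rcases hconj with e | e <;> rw [e]
            · exact hxV
            · exact mul_mem hxV htV
        exact hle hy
      have hcomm : ∀ a ∈ ({t, (x : G)} : Set G), ∀ b ∈ ({t, (x : G)} : Set G), a * b = b * a := by
        rintro a (rfl | rfl) b (rfl | rfl)
        exacts [rfl, hxt.eq, hxt.symm.eq, rfl]
      have hVp : IsPGroup 2 V := by
        intro v
        refine ⟨1, Subtype.ext ?_⟩
        haveI := Subgroup.isMulCommutative_closure hcomm
        have : ∀ y ∈ V, y ^ 2 = 1 := by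
          intro y hy
          induction hy using Subgroup.closure_induction with
          | mem z hz => rcases hz with rfl | rfl; exacts [ht2, hx2]
          | one => exact one_pow 2
          | mul a b ha hb iha ihb =>
            rw [(show Commute a b from congrArg Subtype.val
              ((inferInstance : IsMulCommutative V).is_comm.comm ⟨a, ha⟩ ⟨b, hb⟩)).mul_pow, iha, ihb,
              one_mul]
          | inv a _ ih => rw [inv_pow, ih, inv_one]
        simpa using this v v.2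
      obtain ⟨T, hT⟩ := (hhp.to_sup_of_normal_right' hVp (zpowers_le.2 (pow_mem hgN k))).exists_le_sylow
      refine mem_centralizer_iff.2 fun y hy => hM.sylow_comm T y (hT (mem_sup_right ?_)) h
        (hT (mem_sup_left (mem_zpowers h)))
      rcases hy with rfl | rfl
      exacts [htV, hxV]
    haveI : Group.IsSolvable D := Group.isSolvable_of_isSolvable_injective
      (f := ((X.subtype.comp D.subtype).codRestrict (centralizer ({t, (x : G)} : Set G))
        fun g => hDle _ g.2))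
      (fun a b h => Subtype.ext (Subtype.ext (congrArg Subtype.val h :)))
    exact Group.isSolvable_of_surjective
      (f := (((QuotientGroup.mk' Z).comp D.subtype).codRestrict _ fun g => g.2)) fun u => by
        obtain ⟨g, hg⟩ := QuotientGroup.mk'_surjective Z u.1
        exact ⟨⟨g, show QuotientGroup.mk' Z g ∈ _ by rw [hg]; exact u.2⟩, Subtype.ext hg⟩
  -- the quotient
  set π := QuotientGroup.mk' Z with hπ
  set SX : Sylow 2 X := S.subtype hSX with hSXd
  set Sb : Sylow 2 (X ⧸ Z) := SX.mapSurjective (f := π) (QuotientGroup.mk'_surjective Z) with hSb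
  have hSbc : IsMulCommutative (Sb : Subgroup (X ⧸ Z)) := by
    refine GenA.AbelianConj.isMulCommutative_of fun a ha b hb => ?_
    obtain ⟨a, ha', rfl⟩ := ha
    obtain ⟨b, hb', rfl⟩ := hb
    rw [← map_mul, ← map_mul]
    exact congrArg π (Subtype.ext (hM.sylow_comm S _ ha' _ hb'))
  haveI hZs : Group.IsSolvable Z := Group.isSolvable_of_comm mul_comm'
  rcases SEAbelian.s3188_of_core SEAbelian.coreLemma Sb hSbc hCq with hs | ⟨F, i1, i2, hq, N, hNn, ⟨eN⟩, hCN⟩
  · exact (Group.isSolvable_iff_subgroup_quotient Z).2 ⟨hZs, hs⟩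
  exfalso
  set Q := (X ⧸ Z) ⧸ Cfsg.oddCore (X ⧸ Z) with hQ
  set ρ := QuotientGroup.mk' (Cfsg.oddCore (X ⧸ Z)) with hρ
  set SQ : Sylow 2 Q := Sb.mapSurjective (f := ρ) (QuotientGroup.mk'_surjective _) with hSQ
  -- its order
  have hSbcard : Nat.card (Sb : Subgroup (X ⧸ Z)) = 16 := by
    have h1 : Nat.card (SX : Subgroup X) = 32 := by
      rw [hSXd, Sylow.coe_subtype, Nat.card_congr (subgroupOfEquivOfLe hSX).toEquiv, hcard]; norm_num
    have hZS : Z ≤ (SX : Subgroup X) := zpowers_le.2 (show t ∈ (S : Subgroup G) from htS)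
    have h2 := (Z.subgroupOf (SX : Subgroup X)).card_mul_index
    have hZc : Nat.card Z = 2 := by
      rw [hZ, Nat.card_zpowers, ← Subgroup.orderOf_coe, ht]
    rw [Nat.card_congr (subgroupOfEquivOfLe hZS).toEquiv, hZc, h1, ← relIndex] at h2
    have h3 : Nat.card ((SX : Subgroup X).map π) = Z.relIndex (SX : Subgroup X) := by
      rw [← relIndex_bot_left, ← QuotientGroup.map_mk'_self Z, relIndex_map_map, QuotientGroup.ker_mk', sup_idem, sup_eq_left.2 hZS]
    rw [show (Sb : Subgroup (X ⧸ Z)) = (SX : Subgroup X).map π from rfl, h3]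
    omega
  have hSQcard : Nat.card (SQ : Subgroup Q) = 16 := by
    rw [show (SQ : Subgroup Q) = (Sb : Subgroup (X ⧸ Z)).map ρ from rfl]
    have hdisj : Cfsg.oddCore (X ⧸ Z) ⊓ (Sb : Subgroup (X ⧸ Z)) = ⊥ :=
      (disjoint_of_coprime_natCard (by
        rw [hSbcard, show (16 : ℕ) = 2 ^ 4 by norm_num]
        exact Nat.Coprime.pow_right 4 (Nat.coprime_two_right.2 Agent.Cores.oddCore_odd))).eq_bot
    refine (Nat.card_eq_of_bijective (fun a : (Sb : Subgroup (X ⧸ Z)) =>
      (⟨ρ a, a, a.2, rfl⟩ : (Sb : Subgroup (X ⧸ Z)).map ρ)) ⟨fun a b h => ?_, ?_⟩).symm.trans hSbcard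
    · have : (a : X ⧸ Z)⁻¹ * b ∈ Cfsg.oddCore (X ⧸ Z) ⊓ (Sb : Subgroup (X ⧸ Z)) :=
        ⟨QuotientGroup.eq.1 (congrArg Subtype.val h),
          (Sb : Subgroup (X ⧸ Z)).mul_mem ((Sb : Subgroup (X ⧸ Z)).inv_mem a.2) b.2⟩
      rw [hdisj, mem_bot, inv_mul_eq_one] at this
      exact Subtype.ext this
    · rintro ⟨_, a, ha, rfl⟩
      exact ⟨⟨a, ha⟩, rfl⟩
  haveI := hNn
  have h16 : 16 ∣ Nat.card (MulAut (Matrix.ProjectiveSpecialLinearGroup (Fin 2) F)) := by
    rw [← Nat.card_congr (MulAut.congr eN).toEquiv, ← hSQcard]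
    exact (SQ : Subgroup Q).card_subgroup_dvd_card.trans
      (card_dvd_of_injective _ (GW.Cons.conjNormal_injective hCN))
  rcases hq with hq | ⟨k, hk2, hk⟩
  · exact sixteen_not_dvd_aut (Or.inl hq) h16
  by_cases hk4 : k = 2 ∨ k = 3
  · rcases hk4 with rfl | rfl
    · exact sixteen_not_dvd_aut (Or.inr (Or.inl (by rw [hk]; norm_num))) h16
    · exact sixteen_not_dvd_aut (Or.inr (Or.inr (by rw [hk]; norm_num))) h16
  obtain ⟨eS⟩ := nonempty_sl (F := F) (by omega) hk
  have h2N : 2 ^ k ∣ Nat.card N := by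
    rw [Nat.card_congr (eN.trans eS).toEquiv, Classical.GL2.natCard_SL_two, hk]
    exact dvd_mul_right _ _
  -- all involutions of `N` meeting the Sylow subgroup are fused by five elements
  set NS := (SQ : Subgroup Q) ⊓ N with hNS
  have hNScard : 2 ^ k ∣ Nat.card NS := by
    have h1 := Cores.card_sup_mul_card_inf (SQ : Subgroup Q) N
    rw [hSQcard, ← hNS] at h1
    obtain ⟨c, hc⟩ := h2N
    obtain ⟨j, hj⟩ := ((SQ : Subgroup Q) ⊔ N).card_subgroup_dvd_card
    have hQ16 := (SQ : Subgroup Q).card_mul_index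
    rw [hSQcard] at hQ16
    have h16' : 16 * (2 ^ k * (c * j)) = 16 * (SQ : Subgroup Q).index * Nat.card NS := by
      rw [hQ16, hj]
      calc 16 * (2 ^ k * (c * j)) = 16 * (2 ^ k * c) * j := by ring
        _ = 16 * Nat.card N * j := by rw [hc]
        _ = _ := by rw [← h1]; ring
    have hdv : 2 ^ k ∣ (SQ : Subgroup Q).index * Nat.card NS :=
      ⟨c * j, (Nat.eq_of_mul_eq_mul_left (by norm_num : 0 < 16) (h16'.trans (mul_assoc _ _ _))).symm⟩
    exact (Nat.Coprime.pow_left k (Nat.prime_two.coprime_iff_not_dvd.2 SQ.not_dvd_index)).dvd_of_dvd_mul_left hdv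
  haveI := Fintype.ofFinite NS
  obtain ⟨⟨a₀, ha₀⟩, ha01⟩ : ∃ a : NS, a ≠ 1 := by
    haveI : Nontrivial NS := Finite.one_lt_card_iff_nontrivial.1 (by
      have h1 := Nat.le_of_dvd Nat.card_pos hNScard
      have h2 : 2 ^ 4 ≤ 2 ^ k := Nat.pow_le_pow_right (by norm_num) (by omega)
      omega)
    exact exists_ne 1
  have hSQsq : ∀ a ∈ (SQ : Subgroup Q), a ^ 2 = 1 := by
    rintro _ ⟨_, ⟨a, ha, rfl⟩, rfl⟩
    rw [← map_pow, ← map_pow, show a ^ 2 = 1 from Subtype.ext (hM.sylow_sq S _ ha), map_one, map_one]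
  have hNconj : ∀ a b : N, orderOf a = 2 → orderOf b = 2 → IsConj a b := by
    intro a b ha hb
    have h4 : 4 ≤ Fintype.card F := by
      rw [hk]
      exact Nat.pow_le_pow_right two_pos hk2
    have h5 : Fintype.card F ≠ 5 := by
      rw [hk]
      intro h5
      have : 2 ∣ 2 ^ k := dvd_pow_self 2 (by omega)
      omega
    have := (PSLBinary.exists_four (F := F) h4 h5).2 (eN a) (eN b) (by rw [eN.orderOf_eq, ha]) (by rw [eN.orderOf_eq, hb])
    simpa using eN.symm.toMonoidHom.map_isConj this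
  obtain ⟨_, ⟨a₁, ha₁, rfl⟩, ha₁'⟩ := ha₀.1
  haveI : IsMulCommutative (SQ : Subgroup Q) := by
    refine GenA.AbelianConj.isMulCommutative_of fun a ha b hb => ?_
    obtain ⟨a, ha', rfl⟩ := ha
    obtain ⟨b, hb', rfl⟩ := hb
    rw [← map_mul, ← map_mul, GenA.AbelianConj.mul_comm_of hSbc ha' hb']
  have hbij : (Finset.univ.erase (1 : NS)).image (fun a : NS => (a : Q)) ⊆
      R.image (fun r => if h : r * (a₁ : G) * r⁻¹ ∈ X then ρ (π ⟨_, h⟩) else 1) := by
    intro b hb
    obtain ⟨b', hb', rfl⟩ := Finset.mem_image.1 hb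
    have hb1 : b' ≠ 1 := (Finset.mem_erase.1 hb').1
    have ho : ∀ c : NS, c ≠ 1 → orderOf (⟨(c : Q), c.2.2⟩ : N) = 2 := fun c hc =>
      orderOf_eq_prime (Subtype.ext (hSQsq _ c.2.1)) fun e => hc (Subtype.ext (congrArg Subtype.val e :))
    obtain ⟨d, hd⟩ := isConj_iff.1 (hNconj _ _ (ho ⟨a₀, ha₀⟩ ha01) (ho b' hb1))
    have hdQ : (d : Q) * a₀ * (d : Q)⁻¹ = b' := congrArg Subtype.val hd
    obtain ⟨y, hy, hye⟩ := SQ.conj_eq_normalizer_conj_of_mem a₀ (d : Q)⁻¹ ha₀.1
      (by rw [inv_inv, hdQ]; exact b'.2.1)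
    rw [inv_inv, hdQ] at hye
    obtain ⟨y₁, hy₁, rfl⟩ := EqConjOdd.exists_normalizer_lift
      ρ (QuotientGroup.mk'_surjective _) Sb hy
    obtain ⟨y₂, hy₂, rfl⟩ := EqConjOdd.exists_normalizer_lift π (QuotientGroup.mk'_surjective _) SX hy₁
    have hy₂N : (y₂ : G) ∈ normalizer ((S : Subgroup G) : Set G) := by
      refine mem_normalizer_iff.2 fun z => ⟨fun hz => ?_, fun hz => ?_⟩
      · exact (mem_normalizer_iff.1 hy₂ ⟨z, hSX hz⟩).1 hz
      · have hzX : z ∈ X := by
          have h2 := mul_mem (mul_mem (inv_mem y₂.2) (hSX hz)) y₂.2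
          rwa [show (y₂ : G)⁻¹ * ((y₂ : G) * z * (y₂ : G)⁻¹) * (y₂ : G) = z by group] at h2
        exact (mem_normalizer_iff.1 hy₂ ⟨z, hzX⟩).2 hz
    obtain ⟨r, hr, hrc⟩ := hRr _ (inv_mem hy₂N)
      (mem_centralizer_singleton_iff.1 (inv_mem y₂.2))
    refine Finset.mem_image.2 ⟨r, hr, ?_⟩
    · have he : r * (a₁ : G) * r⁻¹ = (y₂⁻¹ * a₁ * y₂ : X) := by
        rw [← hrc (a₁ : G) ha₁, inv_inv]
        rfl
      rw [dif_pos (show r * (a₁ : G) * r⁻¹ ∈ X by rw [he]; exact SetLike.coe_mem _),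
        show (⟨_, _⟩ : X) = y₂⁻¹ * a₁ * y₂ from Subtype.ext he, map_mul, map_mul, map_mul, map_mul,
        map_inv, map_inv, ha₁']
      exact hye.symm
  have hcardle := Finset.card_le_card hbij
  rw [Finset.card_image_of_injective _ Subtype.val_injective,
    Finset.card_erase_of_mem (Finset.mem_univ _), Finset.card_univ, ← Nat.card_eq_fintype_card] at hcardle
  replace hcardle := hcardle.trans Finset.card_image_le
  have h4 : 2 ^ 4 ≤ 2 ^ k := Nat.pow_le_pow_right (by norm_num) (by omega)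
  have h5 := Nat.le_of_dvd Nat.card_pos hNScard
  omega

end Setting

end Cfsg.Agent.EqAbConj
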